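import Mathlib
import Cfsg.Prelude.Def_Local
import Cfsg.Agent.Helper7.Components
import Cfsg.Agent.Helper7.Layer
import Cfsg.Agent.Helper7.Quasisimple
import Cfsg.Agent.Helper7.PComponent3
import Cfsg.Agent.Helper7.FStar2

set_option autoImplicit false
set_option linter.style.haveILetI false
set_option linter.unusedSectionVars false
set_option maxHeartbeats 1600000

/-! # S3164, glue lemmas on components and layers -/

namespace Cfsg.Agent.S3164P

open Subgroup Cfsg
open Cfsg.Agent.Helper7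
open scoped commutatorElement

universe u

/-- A perfect normal subgroup contained in the layer is semisimple. -/
theorem layer_eq_top_of_normal_perfect_le_layer {Q : Type u} [Group Q] [Finite Q]
    (N : Subgroup Q) [hN : N.Normal] (hperf : ⁅N, N⁆ = N) (hle : N ≤ layer Q) :
    layer ↥N = ⊤ := by
  obtain ⟨E1, hE1⟩ : ∃ E1 : Subgroup Q, E1 = sSup {L : Subgroup Q | IsComponent L ∧ L ≤ N} :=
    ⟨_, rfl⟩
  obtain ⟨E2, hE2⟩ : ∃ E2 : Subgroup Q,
      E2 = sSup {L : Subgroup Q | IsComponent L ∧ ⁅L, N⁆ = ⊥} := ⟨_, rfl⟩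
  have hE1N : E1 ≤ N := by
    rw [hE1]; exact sSup_le (fun L hL => hL.2)
  have hE2c : E2 ≤ centralizer (N : Set Q) := by
    rw [hE2]
    apply sSup_le
    intro L hL
    have := hL.2
    rw [commutator_eq_bot_iff_le_centralizer] at this
    exact this
  have hlay : layer Q ≤ E1 ⊔ E2 := by
    rw [layer_le_iff]
    intro L hL
    rcases component_le_or_commutator_eq_bot hL hN.isSubnormal with h | h
    · exact le_trans (by rw [hE1]; exact le_sSup ⟨hL, h⟩) le_sup_left
    · exact le_trans (by rw [hE2]; exact le_sSup ⟨hL, h⟩) le_sup_right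
  have hE12 : ⁅E1, E2⁆ = ⊥ := by
    rw [commutator_comm, commutator_eq_bot_iff_le_centralizer]
    exact hE2c.trans (centralizer_le hE1N)
  obtain ⟨Z', hZ'⟩ : ∃ Z' : Subgroup Q, Z' = N ⊓ centralizer (N : Set Q) := ⟨_, rfl⟩
  have hNle : N ≤ E1 ⊔ Z' := by
    intro n hn
    obtain ⟨e1, he1, e2, he2, rfl⟩ := (mem_sup_of_commutator_eq_bot hE12).1 (hlay (hle hn))
    have he2N : e2 ∈ N := by
      have : e2 = e1⁻¹ * (e1 * e2) := by group
      rw [this]
      exact N.mul_mem (N.inv_mem (hE1N he1)) hn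
    exact mul_mem (mem_sup_left he1) (mem_sup_right (by rw [hZ']; exact ⟨he2N, hE2c he2⟩))
  have hE1Z : ⁅E1, Z'⁆ = ⊥ := by
    rw [commutator_comm, commutator_eq_bot_iff_le_centralizer, hZ']
    exact inf_le_right.trans (centralizer_le hE1N)
  have hZZ : ⁅Z', Z'⁆ = ⊥ := by
    rw [commutator_eq_bot_iff_le_centralizer, hZ']
    exact inf_le_right.trans (centralizer_le inf_le_left)
  have hNE1 : N ≤ E1 := by
    calc N = ⁅N, N⁆ := hperf.symm
      _ ≤ ⁅E1 ⊔ Z', E1 ⊔ Z'⁆ := commutator_mono hNle hNle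
      _ ≤ ⁅E1, E1⁆ ⊔ ⁅Z', Z'⁆ := commutator_sup_sup_le hE1Z
      _ ≤ E1 := by rw [hZZ, sup_bot_eq]; exact commutator_le_self _
  have hNeq : N = E1 := le_antisymm hNE1 hE1N
  -- every component of `Q` inside `N` is a component of `N`
  have hmap1 : E1 ≤ (layer ↥N).map N.subtype := by
    rw [hE1]
    apply sSup_le
    intro L hL
    have hLN : L ≤ N := hL.2
    have h1 : IsComponent (L.subgroupOf N) := isComponent_subgroupOf hL.1 hLN
    have h2 : L.subgroupOf N ≤ layer ↥N := IsComponent.le_layer h1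
    intro x hx
    exact ⟨⟨x, hLN hx⟩, h2 (mem_subgroupOf.2 hx), rfl⟩
  have hmap : N ≤ (layer ↥N).map N.subtype := hNE1.trans hmap1
  rw [eq_top_iff]
  intro x _
  obtain ⟨y, hy, hyx⟩ := hmap x.2
  have : y = x := Subtype.ext hyx
  rwa [← this]


/-- Over a component of a central quotient of `Y` sits a component of `Y`. -/
theorem exists_component_over {Y Z : Type u} [Group Y] [Finite Y] [Group Z] [Finite Z]
    (f : Y →* Z) (hf : Function.Surjective f) (hker : f.ker ≤ center Y)
    {L : Subgroup Z} (hL : IsComponent L) :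
    ∃ D : Subgroup Y, IsComponent D ∧ D.map f = L := by
  obtain ⟨P, hP⟩ : ∃ P : Subgroup Y, P = L.comap f := ⟨_, rfl⟩
  obtain ⟨D, hD⟩ : ∃ D : Subgroup Y, D = ⁅P, P⁆ := ⟨_, rfl⟩
  have hPmap : P.map f = L := by rw [hP]; exact map_comap_eq_self_of_surjective hf L
  have hDmap : D.map f = L := by
    rw [hD, map_commutator, hPmap]; exact IsComponent.commutator_eq hL
  have hDP : D ≤ P := by rw [hD]; exact commutator_le_self P
  have hPle : P ≤ D ⊔ center Y := by
    intro x hx
    have hfx : f x ∈ D.map f := by rw [hDmap, ← hPmap]; exact mem_map_of_mem f hx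
    obtain ⟨d, hd, hdx⟩ := hfx
    have hk : d⁻¹ * x ∈ f.ker := by
      rw [MonoidHom.mem_ker, map_mul, map_inv, hdx, inv_mul_cancel]
    have : x = d * (d⁻¹ * x) := by group
    rw [this]
    exact mul_mem (mem_sup_left hd) (mem_sup_right (hker hk))
  have hDperf : ⁅D, D⁆ = D := by
    apply le_antisymm (commutator_le_self D)
    calc D = ⁅P, P⁆ := hD
      _ ≤ ⁅D ⊔ center Y, D ⊔ center Y⁆ := commutator_mono hPle hPle
      _ = ⁅D, D⁆ := commutator_sup_center_both D D
  have hPsn : P.IsSubnormal := by rw [hP]; exact hL.1.comap f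
  have hDn : (D.subgroupOf P).Normal := by
    rw [normal_subgroupOf_iff_le_normalizer hDP, hD]
    exact le_normalizer_commutator_left P P
  have hDsn : D.IsSubnormal := IsSubnormal.trans hDP hDn.isSubnormal hPsn
  refine ⟨D, ⟨hDsn, ?_⟩, hDmap⟩
  -- quasisimplicity of `D`
  have hDperf' : Group.IsPerfect ↥D := Subgroup.isPerfect_iff.2 hDperf
  obtain ⟨fD, hfD⟩ : ∃ fD : ↥D →* ↥L, ∀ d : ↥D, ((fD d : ↥L) : Z) = f (d : Y) := by
    refine ⟨(f.comp D.subtype).codRestrict L (fun d => ?_), fun d => rfl⟩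
    rw [← hDmap]; exact mem_map_of_mem f d.2
  have hfDsurj : Function.Surjective fD := by
    intro l
    have : (l : Z) ∈ D.map f := by rw [hDmap]; exact l.2
    obtain ⟨d, hd, hdl⟩ := this
    exact ⟨⟨d, hd⟩, Subtype.ext (by rw [hfD]; exact hdl)⟩
  have hkerD : fD.ker ≤ center ↥D := by
    intro d hd
    rw [MonoidHom.mem_ker] at hd
    have h1 : f (d : Y) = 1 := by rw [← hfD, hd]; rfl
    have h2 : (d : Y) ∈ center Y := hker (MonoidHom.mem_ker.2 h1)
    rw [Subgroup.mem_center_iff]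
    intro e
    apply Subtype.ext
    rw [Subgroup.coe_mul, Subgroup.coe_mul]
    exact Subgroup.mem_center_iff.1 h2 e
  have hq : IsQuasisimple (↥D ⧸ fD.ker) :=
    isQuasisimple_of_mulEquiv (QuotientGroup.quotientKerEquivOfSurjective fD hfDsurj).symm hL.2
  exact isQuasisimple_of_quotient_central hDperf' fD.ker hkerD hq

/-- Semisimplicity lifts through a central quotient of a perfect group. -/
theorem layer_eq_top_of_surjective_central {Y Z : Type u} [Group Y] [Finite Y] [Group Z]
    [Finite Z] (f : Y →* Z) (hf : Function.Surjective f) (hker : f.ker ≤ center Y)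
    (hperf : ⁅(⊤ : Subgroup Y), (⊤ : Subgroup Y)⁆ = ⊤) (hZ : layer Z = ⊤) : layer Y = ⊤ := by
  have h1 : layer Z ≤ (layer Y).map f := by
    rw [layer_le_iff]
    intro L hL
    obtain ⟨D, hD, hDL⟩ := exists_component_over f hf hker hL
    rw [← hDL]
    exact map_mono (IsComponent.le_layer hD)
  have h2 : (⊤ : Subgroup Y) ≤ layer Y ⊔ center Y := by
    intro y _
    have : f y ∈ (layer Y).map f := h1 (by rw [hZ]; exact mem_top _)
    obtain ⟨e, he, hey⟩ := this
    have hk : e⁻¹ * y ∈ f.ker := by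
      rw [MonoidHom.mem_ker, map_mul, map_inv, hey, inv_mul_cancel]
    have : y = e * (e⁻¹ * y) := by group
    rw [this]
    exact mul_mem (mem_sup_left he) (mem_sup_right (hker hk))
  rw [eq_top_iff]
  calc (⊤ : Subgroup Y) = ⁅(⊤ : Subgroup Y), (⊤ : Subgroup Y)⁆ := hperf.symm
    _ ≤ ⁅layer Y ⊔ center Y, layer Y ⊔ center Y⁆ := commutator_mono h2 h2
    _ = ⁅layer Y, layer Y⁆ := commutator_sup_center_both _ _
    _ ≤ layer Y := commutator_le_self _

end Cfsg.Agent.S3164P
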