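import Mathlib
import Cfsg.Prelude.Def_Local
import Cfsg.Agent.Helper9.LBalK
import Cfsg.Agent.Lead.GenCent
import Cfsg.Agent.S3164P.Glue

set_option autoImplicit false
set_option linter.style.haveILetI false
set_option linter.unusedSectionVars false
set_option maxHeartbeats 1600000

/-! # S3164, the local analysis -/

namespace Cfsg.Agent.S3164P

open Subgroup Cfsg
open Cfsg.Agent.Helper7
open scoped commutatorElement

universe u

section elem

variable {G : Type*} [Group G]

theorem sq_of_orderOf_two {t : G} (ht : orderOf t = 2) : t * t = 1 := by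
  have := pow_orderOf_eq_one t
  rwa [ht, pow_two] at this

/-- The commutator `a = [r,t]` of an involution `t`, when it commutes with `t`, is an involution
or trivial, and `t` is conjugate to `a t`. -/
theorem comm_involution {t r : G} (ht : orderOf t = 2) (hc : Commute ⁅r, t⁆ t) :
    ⁅r, t⁆ * ⁅r, t⁆ = 1 ∧ r * t * r⁻¹ = ⁅r, t⁆ * t := by
  have htt : t * t = 1 := sq_of_orderOf_two ht
  have h2 : r * t * r⁻¹ = ⁅r, t⁆ * t := by
    rw [commutatorElement_def]; group
  refine ⟨?_, h2⟩
  have h3 : (r * t * r⁻¹) * (r * t * r⁻¹) = 1 := by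
    calc (r * t * r⁻¹) * (r * t * r⁻¹) = r * (t * t) * r⁻¹ := by group
      _ = 1 := by rw [htt]; group
  rw [h2] at h3
  calc ⁅r, t⁆ * ⁅r, t⁆ = ⁅r, t⁆ * ⁅r, t⁆ * (t * t) := by rw [htt, mul_one]
    _ = ⁅r, t⁆ * (⁅r, t⁆ * t) * t := by group
    _ = ⁅r, t⁆ * (t * ⁅r, t⁆) * t := by rw [hc.eq]
    _ = (⁅r, t⁆ * t) * (⁅r, t⁆ * t) := by group
    _ = 1 := h3

/-- In a finite cyclic group there is at most one involution. -/
theorem eq_of_sq_eq_one_of_isCyclic {H : Type*} [Group H] [Finite H] [IsCyclic H] {x y : H}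
    (hx : x * x = 1) (hy : y * y = 1) (hx1 : x ≠ 1) (hy1 : y ≠ 1) : x = y := by
  classical
  haveI : Fintype H := Fintype.ofFinite H
  by_contra hxy
  have h := IsCyclic.card_pow_eq_one_le (α := H) (n := 2) (by norm_num)
  have hsub : ({1, x, y} : Finset H) ⊆ Finset.univ.filter (fun a : H => a ^ 2 = 1) := by
    intro z hz
    simp only [Finset.mem_insert, Finset.mem_singleton] at hz
    simp only [Finset.mem_filter, Finset.mem_univ, true_and]
    rcases hz with rfl | rfl | rfl
    · simp
    · rw [pow_two]; exact hx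
    · rw [pow_two]; exact hy
  have hcard : ({1, x, y} : Finset H).card = 3 := by
    rw [Finset.card_insert_of_notMem, Finset.card_insert_of_notMem, Finset.card_singleton]
    · simpa using hxy
    · simp only [Finset.mem_insert, Finset.mem_singleton, not_or]
      exact ⟨fun h => hx1 h.symm, fun h => hy1 h.symm⟩
  have := (Finset.card_le_card hsub).trans h
  omega

end elem


section main

variable {G : Type u} [Group G] [Finite G]

open Cfsg.Agent.Helper9.LBal (mem_zpowers_two ne_one_of_orderOf_two mul_self_of_orderOf_two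
  isPGroup_zpowers_two)
open Cfsg.Agent.Helper19 (pPrimeCore_coprime)

/-- the four-group generated by two commuting involutions -/
theorem four_le_centralizer {t a : G} (hc : Commute a t) :
    zpowers t ⊔ zpowers a ≤ centralizer ((zpowers t ⊔ zpowers a : Subgroup G) : Set G) := by
  have hEt : zpowers t ⊔ zpowers a ≤ centralizer ((zpowers t : Subgroup G) : Set G) := by
    rw [Cfsg.Agent.Helper9.LBal.centralizer_zpowers_eq]
    apply sup_le
    · exact zpowers_le.2 (mem_centralizer_singleton_iff.2 rfl)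
    · exact zpowers_le.2 (mem_centralizer_singleton_iff.2 hc.eq)
  have hEa : zpowers t ⊔ zpowers a ≤ centralizer ((zpowers a : Subgroup G) : Set G) := by
    rw [Cfsg.Agent.Helper9.LBal.centralizer_zpowers_eq]
    apply sup_le
    · exact zpowers_le.2 (mem_centralizer_singleton_iff.2 hc.eq.symm)
    · exact zpowers_le.2 (mem_centralizer_singleton_iff.2 rfl)
  exact sup_le (le_centralizer_iff.1 hEt) (le_centralizer_iff.1 hEa)

theorem four_isPGroup {t a : G} (ht : orderOf t = 2) (ha : orderOf a = 2) (hc : Commute a t) :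
    IsPGroup 2 ↥(zpowers t ⊔ zpowers a) := by
  haveI : Fact (Nat.Prime 2) := ⟨Nat.prime_two⟩
  apply IsPGroup.to_sup_of_normal_right' (isPGroup_zpowers_two ht) (isPGroup_zpowers_two ha)
  have h1 : zpowers t ≤ centralizer ((zpowers a : Subgroup G) : Set G) := by
    rw [Cfsg.Agent.Helper9.LBal.centralizer_zpowers_eq]
    exact zpowers_le.2 (mem_centralizer_singleton_iff.2 hc.eq.symm)
  exact h1.trans (centralizer_le_normalizer _)

theorem four_mem {t a : G} (ht : orderOf t = 2) (ha : orderOf a = 2) (hc : Commute a t) {e : G}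
    (he : e ∈ zpowers t ⊔ zpowers a) : e = 1 ∨ e = t ∨ e = a ∨ e = t * a := by
  have h1 : zpowers a ≤ normalizer ((zpowers t : Subgroup G) : Set G) := by
    have h1 : zpowers a ≤ centralizer ((zpowers t : Subgroup G) : Set G) := by
      rw [Cfsg.Agent.Helper9.LBal.centralizer_zpowers_eq]
      exact zpowers_le.2 (mem_centralizer_singleton_iff.2 hc.eq)
    exact h1.trans (centralizer_le_normalizer _)
  obtain ⟨x, hx, y, hy, rfl⟩ := (mem_sup_of_le_normalizer h1).1 he
  rcases mem_zpowers_two ht hx with rfl | rfl <;> rcases mem_zpowers_two ha hy with rfl | rfl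
  · left; simp
  · right; right; left; simp
  · right; left; simp
  · right; right; right; rfl

theorem four_not_isCyclic {t a : G} (ht : orderOf t = 2) (ha : orderOf a = 2) (hat : a ≠ t) :
    ¬ IsCyclic ↥(zpowers t ⊔ zpowers a) := by
  intro hcyc
  have htE : t ∈ zpowers t ⊔ zpowers a := mem_sup_left (mem_zpowers t)
  have haE : a ∈ zpowers t ⊔ zpowers a := mem_sup_right (mem_zpowers a)
  have := eq_of_sq_eq_one_of_isCyclic (H := ↥(zpowers t ⊔ zpowers a))
    (x := ⟨t, htE⟩) (y := ⟨a, haE⟩)
    (Subtype.ext (mul_self_of_orderOf_two ht)) (Subtype.ext (mul_self_of_orderOf_two ha))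
    (fun h => ne_one_of_orderOf_two ht (congrArg Subtype.val h))
    (fun h => ne_one_of_orderOf_two ha (congrArg Subtype.val h))
  exact hat (congrArg Subtype.val this).symm

/-- (1) no four-group in a group with cyclic Sylow 2-subgroups. -/
theorem false_of_two_involutions {K : Subgroup G}
    (hcyc : ∀ R : Sylow 2 ↥K, IsCyclic ↥(R : Subgroup ↥K)) {t a : G} (htK : t ∈ K) (haK : a ∈ K)
    (ht : orderOf t = 2) (ha : orderOf a = 2) (hat : a ≠ t) (hc : Commute a t) : False := by
  haveI : Fact (Nat.Prime 2) := ⟨Nat.prime_two⟩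
  obtain ⟨t', ht'⟩ : ∃ t' : ↥K, t' = ⟨t, htK⟩ := ⟨_, rfl⟩
  obtain ⟨a', ha'⟩ : ∃ a' : ↥K, a' = ⟨a, haK⟩ := ⟨_, rfl⟩
  have hto : orderOf t' = 2 := by rw [ht', ← ht]; exact Subgroup.orderOf_mk t htK
  have hao : orderOf a' = 2 := by rw [ha', ← ha]; exact Subgroup.orderOf_mk a haK
  have hc' : Commute a' t' := by
    rw [ha', ht']; exact Subtype.ext hc.eq
  have hat' : a' ≠ t' := by
    rw [ha', ht']; intro h; exact hat (congrArg Subtype.val h)
  obtain ⟨S, hS⟩ := (four_isPGroup hto hao hc').exists_le_sylow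
  haveI := hcyc S
  have htS : t' ∈ (S : Subgroup ↥K) := hS (mem_sup_left (mem_zpowers t'))
  have haS : a' ∈ (S : Subgroup ↥K) := hS (mem_sup_right (mem_zpowers a'))
  have := eq_of_sq_eq_one_of_isCyclic (H := ↥(S : Subgroup ↥K))
    (x := ⟨t', htS⟩) (y := ⟨a', haS⟩)
    (Subtype.ext (mul_self_of_orderOf_two hto)) (Subtype.ext (mul_self_of_orderOf_two hao))
    (fun h => ne_one_of_orderOf_two hto (congrArg Subtype.val h))
    (fun h => ne_one_of_orderOf_two hao (congrArg Subtype.val h))
  exact hat' (congrArg Subtype.val this).symm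

/-- (2) the centralizer of an involution of a tightly embedded subgroup normalizes it. -/
theorem centralizer_le_normalizer_of_tight {K : Subgroup G} (hK : IsTightlyEmbedded K) {t : G}
    (ht : orderOf t = 2) (htK : t ∈ K) :
    centralizer ({t} : Set G) ≤ normalizer (K : Set G) := by
  intro g hg
  by_contra hgn
  have hodd := hK.2 g hgn
  have hmem : t ∈ K ⊓ K.map (MulAut.conj g).toMonoidHom := by
    refine ⟨htK, t, htK, ?_⟩
    rw [mem_centralizer_singleton_iff] at hg
    change g * t * g⁻¹ = t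
    rw [hg]; group
  have h2 : 2 ∣ Nat.card ↥(K ⊓ K.map (MulAut.conj g).toMonoidHom) := by
    have := orderOf_dvd_natCard (⟨t, hmem⟩ : ↥(K ⊓ K.map (MulAut.conj g).toMonoidHom))
    rwa [Subgroup.orderOf_mk, ht] at this
  exact (Nat.not_even_iff_odd.2 hodd) (even_iff_two_dvd.2 h2)

/-- (3) `A` centralizes `C_{O(G)}(t)`. -/
theorem commutator_core_centralizer_eq_bot {A : Subgroup G} (hq : IsQuasisimple ↥A) {t : G}
    (hCN : centralizer ({t} : Set G) ≤ normalizer (A : Set G))
    (hAC : A ≤ centralizer ({t} : Set G)) (h2 : 2 ∣ Nat.card ↥A) :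
    ⁅A, pPrimeCore 2 G ⊓ centralizer ({t} : Set G)⁆ = ⊥ := by
  haveI : Fact (Nat.Prime 2) := ⟨Nat.prime_two⟩
  have hcomp : IsComponent (A.subgroupOf (centralizer ({t} : Set G))) := by
    refine ⟨?_, isQuasisimple_of_mulEquiv (subgroupOfEquivOfLe hAC).symm hq⟩
    have : (A.subgroupOf (centralizer ({t} : Set G))).Normal :=
      (normal_subgroupOf_iff_le_normalizer hAC).2 hCN
    exact this.isSubnormal
  apply Cfsg.Agent.Helper9.LBal.commutator_eq_bot_of_isComponent_subgroupOf (p := 2) hcomp hAC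
    inf_le_right h2
  · exact Nat.Coprime.coprime_dvd_left (card_dvd_of_le inf_le_left) (pPrimeCore_coprime 2)
  · intro x hx
    have hxC : x ∈ Subgroup.centralizer ({t} : Set G) := hAC hx
    rw [mem_normalizer_iff]
    intro h
    rw [Subgroup.mem_inf, Subgroup.mem_inf]
    constructor
    · rintro ⟨h1, h2⟩
      exact ⟨(pPrimeCore_normal 2 G).conj_mem h h1 x,
        Subgroup.mul_mem _ (Subgroup.mul_mem _ hxC h2) (Subgroup.inv_mem _ hxC)⟩
    · rintro ⟨h1, h2⟩
      have e : h = x⁻¹ * (x * h * x⁻¹) * x⁻¹⁻¹ := by group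
      rw [e]
      exact ⟨(pPrimeCore_normal 2 G).conj_mem _ h1 x⁻¹,
        Subgroup.mul_mem _ (Subgroup.mul_mem _ (Subgroup.inv_mem _ hxC) h2)
          (Subgroup.inv_mem _ (Subgroup.inv_mem _ hxC))⟩

/-- (4) the involution `a` centralizes `O(G)`. -/
theorem core_le_centralizer {t a r : G} (ht : orderOf t = 2) (ha : orderOf a = 2) (hat : a ≠ t)
    (hc : Commute a t) (hr : r * t * r⁻¹ = a * t)
    (hVt : pPrimeCore 2 G ⊓ centralizer ({t} : Set G) ≤ centralizer ({a} : Set G)) :
    pPrimeCore 2 G ≤ centralizer ({a} : Set G) := by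
  haveI : Fact (Nat.Prime 2) := ⟨Nat.prime_two⟩
  obtain ⟨V, hV⟩ : ∃ V : Subgroup G, V = pPrimeCore 2 G := ⟨_, rfl⟩
  haveI hVn : V.Normal := hV ▸ pPrimeCore_normal 2 G
  rw [← hV] at hVt ⊢
  obtain ⟨E, hE⟩ : ∃ E : Subgroup G, E = zpowers t ⊔ zpowers a := ⟨_, rfl⟩
  haveI hEcomm : IsMulCommutative ↥E := by
    rw [hE]; exact le_centralizer_iff_isMulCommutative.1 (four_le_centralizer hc)
  have hEnc : ¬ IsCyclic ↥E := by rw [hE]; exact four_not_isCyclic ht ha hat
  have hEN : E ≤ normalizer (V : Set G) := by rw [normalizer_eq_top]; exact le_top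
  have hcop : (Nat.card ↥E).Coprime (Nat.card ↥V) := by
    obtain ⟨n, hn⟩ := IsPGroup.iff_card.1 (hE ▸ four_isPGroup ht ha hc)
    rw [hn]
    apply Nat.Coprime.pow_left
    rw [hV]
    exact (pPrimeCore_coprime 2).symm
  have hgen := Cfsg.Agent.Lead.generated_by_centralizers E V hEnc hEN hcop
  -- the centralizer of `t * a`
  have hta : V ⊓ centralizer ({t * a} : Set G) ≤ V ⊓ centralizer ({t} : Set G) := by
    have hle : V ⊓ centralizer ({t} : Set G) ≤ V ⊓ centralizer ({t * a} : Set G) := by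
      intro x hx
      have hx' := Subgroup.mem_inf.1 hx
      have h1 : Commute x t := mem_centralizer_singleton_iff.1 hx'.2
      have h2 : Commute x a := mem_centralizer_singleton_iff.1 (hVt hx)
      exact Subgroup.mem_inf.2 ⟨hx'.1, mem_centralizer_singleton_iff.2 (h1.mul_right h2).eq⟩
    have hsub : V ⊓ centralizer ({t * a} : Set G) ≤
        (V ⊓ centralizer ({t} : Set G)).map (MulAut.conj r).toMonoidHom := by
      intro x hx
      have hx' := Subgroup.mem_inf.1 hx
      have hx2 : x * (r * t * r⁻¹) = (r * t * r⁻¹) * x := by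
        rw [hr, hc.eq]; exact mem_centralizer_singleton_iff.1 hx'.2
      refine ⟨r⁻¹ * x * r, Subgroup.mem_inf.2 ⟨?_, ?_⟩, ?_⟩
      · have := hVn.conj_mem x hx'.1 r⁻¹
        rwa [inv_inv] at this
      · rw [mem_centralizer_singleton_iff]
        calc (r⁻¹ * x * r) * t = r⁻¹ * (x * (r * t * r⁻¹)) * r := by group
          _ = r⁻¹ * ((r * t * r⁻¹) * x) * r := by rw [hx2]
          _ = t * (r⁻¹ * x * r) := by group
      · change r * (r⁻¹ * x * r) * r⁻¹ = x
        group
    have hcard : Nat.card ↥(V ⊓ centralizer ({t * a} : Set G)) ≤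
        Nat.card ↥(V ⊓ centralizer ({t} : Set G)) := by
      calc Nat.card ↥(V ⊓ centralizer ({t * a} : Set G))
          ≤ Nat.card ↥((V ⊓ centralizer ({t} : Set G)).map (MulAut.conj r).toMonoidHom) :=
            Subgroup.card_le_of_le hsub
        _ = Nat.card ↥(V ⊓ centralizer ({t} : Set G)) :=
            Subgroup.card_map_of_injective (MulAut.conj r).injective
    exact (Subgroup.eq_of_le_of_card_ge hle hcard).ge
  calc V = ⨆ e ∈ {e : G | e ∈ E ∧ e ≠ 1}, V ⊓ centralizer {e} := hgen.symm
    _ ≤ centralizer ({a} : Set G) := by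
      apply iSup₂_le
      rintro e ⟨heE, he1⟩
      rw [hE] at heE
      rcases four_mem ht ha hc heE with rfl | rfl | rfl | rfl
      · exact absurd rfl he1
      · exact hVt
      · exact inf_le_right
      · exact hta.trans hVt

/-- (5) a normal subgroup of `G` meeting the quasisimple group `A` outside the centre
contains `A`. -/
theorem le_of_normal_of_mem_not_central {A : Subgroup G} (hq : IsQuasisimple ↥A) (M : Subgroup G)
    [M.Normal] {a : G} (haA : a ∈ A) (haM : a ∈ M) (hnc : a ∉ centralizer (A : Set G)) :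
    A ≤ M := by
  rcases IsQuasisimple.normal_eq_top_or_le_center hq (M.subgroupOf A) with h | h
  · exact subgroupOf_eq_top.1 h
  · exfalso
    apply hnc
    have h1 : (⟨a, haA⟩ : ↥A) ∈ center ↥A := h (mem_subgroupOf.2 haM)
    rw [mem_centralizer_iff]
    intro x hx
    have := Subgroup.mem_center_iff.1 h1 ⟨x, hx⟩
    exact congrArg Subtype.val this

end main

end Cfsg.Agent.S3164P
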