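import Mathlib
import Cfsg.Prelude.Def_Local
import Cfsg.Agent.Helper9.LBalK
import Cfsg.Agent.Helper7.PComponent
import Cfsg.Agent.S3164P.Glue
import Cfsg.Agent.S3164P.Local

set_option autoImplicit false
set_option linter.style.haveILetI false
set_option linter.unusedSectionVars false
set_option linter.unusedVariables false
set_option maxHeartbeats 1600000

/-! # S3164, assembly -/

namespace Cfsg.Agent.S3164P

open Subgroup Cfsg
open Cfsg.Agent.Helper7
open Cfsg.Agent.Helper1 (SubnIn)
open Cfsg.Agent.Helper9.LBal (mem_zpowers_two ne_one_of_orderOf_two mul_self_of_orderOf_two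
  isPGroup_zpowers_two)
open Cfsg.Agent.Helper19 (pPrimeCore_coprime)
open scoped commutatorElement

universe u

variable {G : Type u} [Group G] [Finite G]

/-- `A` lies in the 2-layer, by `L`-balance. -/
theorem le_pLayer_two {A : Subgroup G} (hq : IsQuasisimple ↥A) {t : G} (ht : orderOf t = 2)
    (hCN : centralizer ({t} : Set G) ≤ normalizer (A : Set G))
    (hAC : A ≤ centralizer ({t} : Set G)) {a : G} (haA : a ∈ A) (ha : orderOf a = 2)
    (hnc : a ∉ centralizer (A : Set G)) : A ≤ pLayer 2 G := by
  haveI : Fact (Nat.Prime 2) := ⟨Nat.prime_two⟩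
  have hCeq : centralizer ((zpowers t : Subgroup G) : Set G) = centralizer ({t} : Set G) :=
    Cfsg.Agent.Helper9.LBal.centralizer_zpowers_eq t
  have hsub : SubnIn A (centralizer ((zpowers t : Subgroup G) : Set G)) := by
    rw [hCeq]; exact SubnIn.of_normal hAC hCN
  -- `a` is not central in `A`
  have hncA : (⟨a, haA⟩ : ↥A) ∉ center ↥A := by
    intro h
    apply hnc
    rw [mem_centralizer_iff]
    intro x hx
    have := Subgroup.mem_center_iff.1 h ⟨x, hx⟩
    exact congrArg Subtype.val this
  have hao : orderOf (⟨a, haA⟩ : ↥A) = 2 := by rw [← ha]; exact Subgroup.orderOf_mk a haA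
  have hc2t : Cfsg.Agent.Helper9.LBal.C2T 2 ↥A := by
    refine ⟨hq.1, ?_, ?_⟩
    · haveI : (pGen 2 (⊤ : Subgroup ↥A)).Normal := by
        rw [← normalizer_eq_top_iff, eq_top_iff]
        exact le_normalizer_pGen (⊤ : Subgroup ↥A)
      rcases IsQuasisimple.normal_eq_top_or_le_center hq (pGen 2 (⊤ : Subgroup ↥A)) with h | h
      · exact h
      · exfalso
        apply hncA
        apply h
        apply mem_pGen (mem_top _) (k := 1)
        rw [pow_one, pow_two]
        exact mul_self_of_orderOf_two hao
    · have hne : pPrimeCore 2 ↥A ≠ ⊤ := by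
        intro h
        have h1 : (Nat.card ↥(pPrimeCore 2 ↥A)).Coprime 2 := pPrimeCore_coprime 2
        have h2 : 2 ∣ Nat.card ↥(pPrimeCore 2 ↥A) := by
          rw [h, Subgroup.card_top, ← hao]
          exact orderOf_dvd_natCard _
        have := Nat.Coprime.eq_one_of_dvd h1.symm h2
        omega
      haveI : Nontrivial (↥A ⧸ pPrimeCore 2 ↥A) := QuotientGroup.nontrivial_iff.2 hne
      exact isQuasisimple_of_surjective' hq (QuotientGroup.mk' (pPrimeCore 2 ↥A))
        (QuotientGroup.mk'_surjective _)
  have hpc : IsPComponentOf 2 A (centralizer ((zpowers t : Subgroup G) : Set G)) :=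
    Cfsg.Agent.Helper9.LBal.isPComponentOf_iff.2 ⟨hsub, hc2t⟩
  exact (Cfsg.Agent.Helper9.LBal.IsPComponentOf.le_pLayerOf hpc).trans
    (Cfsg.Agent.Helper9.LBal.l_balance (zpowers t) (isPGroup_zpowers_two ht))


/-- The main theorem. -/
theorem main (A : Subgroup G) (hA : IsStandardSubgroup A)
    (hcyc : ∀ R : Sylow 2 ↥(centralizer (A : Set G)),
      IsCyclic ↥(R : Subgroup ↥(centralizer (A : Set G))))
    (t : G) (ht : orderOf t = 2) (htA : t ∈ centralizer (A : Set G))
    (R : Subgroup G) (hRX : R ≤ normalClosure (A : Set G))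
    (hc1 : ⁅R, zpowers t⁆ ≠ ⊥) (hc2 : ⁅R, zpowers t⁆ ≤ A) :
    layer ↥(normalClosure (A : Set G)) = ⊤ ∧
      Odd (Nat.card ↥(center ↥(normalClosure (A : Set G)))) := by
  haveI : Fact (Nat.Prime 2) := ⟨Nat.prime_two⟩
  obtain ⟨hq, htight, hnc, hnorm⟩ := hA
  -- step 0 : the involution `a`
  have hex : ∃ r ∈ R, ⁅r, t⁆ ≠ 1 := by
    by_contra hcon
    push Not at hcon
    apply hc1
    rw [eq_bot_iff, commutator_le]
    intro g₁ h₁ g₂ h₂
    rw [mem_bot]
    rcases mem_zpowers_two ht h₂ with rfl | rfl
    · simp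
    · exact hcon g₁ h₁
  obtain ⟨r, hrR, hane⟩ := hex
  obtain ⟨a, hadef⟩ : ∃ a : G, a = ⁅r, t⁆ := ⟨_, rfl⟩
  rw [← hadef] at hane
  have haA : a ∈ A := by
    rw [hadef]; exact hc2 (commutator_mem_commutator hrR (mem_zpowers t))
  have hcomm : Commute a t := (mem_centralizer_iff.1 htA a haA)
  obtain ⟨haa, hrt⟩ := comm_involution ht (hadef ▸ hcomm)
  rw [← hadef] at haa hrt
  have ha : orderOf a = 2 := orderOf_eq_prime (by rw [pow_two]; exact haa) hane
  have ht1 : t ≠ 1 := ne_one_of_orderOf_two ht
  have hat : a ≠ t := by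
    intro h
    apply ht1
    rw [h, mul_self_of_orderOf_two ht] at hrt
    calc t = r⁻¹ * (r * t * r⁻¹) * r := by group
      _ = 1 := by rw [hrt]; group
  -- step 1
  have hanc : a ∉ centralizer (A : Set G) := fun haK =>
    false_of_two_involutions hcyc htA haK ht ha hat hcomm
  -- step 2
  have hCN : centralizer ({t} : Set G) ≤ normalizer (A : Set G) := by
    rw [hnorm]; exact centralizer_le_normalizer_of_tight htight ht htA
  have hAC : A ≤ centralizer ({t} : Set G) := by
    intro x hx
    rw [mem_centralizer_singleton_iff]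
    exact mem_centralizer_iff.1 htA x hx
  have h2A : 2 ∣ Nat.card ↥A := by
    have := orderOf_dvd_natCard (⟨a, haA⟩ : ↥A)
    rwa [Subgroup.orderOf_mk, ha] at this
  -- step 3
  have h3 := commutator_core_centralizer_eq_bot hq hCN hAC h2A
  have hVt : pPrimeCore 2 G ⊓ centralizer ({t} : Set G) ≤ centralizer ({a} : Set G) := by
    rw [commutator_comm, commutator_eq_bot_iff_le_centralizer] at h3
    exact h3.trans (centralizer_le (Set.singleton_subset_iff.2 haA))
  -- step 4
  have h4 := core_le_centralizer ht ha hat hcomm hrt hVt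
  -- step 5
  have haCV : a ∈ centralizer ((pPrimeCore 2 G : Subgroup G) : Set G) := by
    rw [mem_centralizer_iff]
    intro v hv
    exact mem_centralizer_singleton_iff.1 (h4 hv)
  have hAV : A ≤ centralizer ((pPrimeCore 2 G : Subgroup G) : Set G) :=
    le_of_normal_of_mem_not_central hq _ haA haCV hanc
  have hXV : normalClosure (A : Set G) ≤ centralizer ((pPrimeCore 2 G : Subgroup G) : Set G) :=
    normalClosure_le_normal hAV
  have hAL : A ≤ pLayer 2 G := le_pLayer_two hq ht hCN hAC haA ha hanc
  obtain ⟨X, hX⟩ : ∃ X : Subgroup G, X = normalClosure (A : Set G) := ⟨_, rfl⟩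
  rw [← hX] at hXV hRX ⊢
  haveI hXn : X.Normal := hX ▸ normalClosure_normal
  have hAX : A ≤ X := hX ▸ le_normalClosure
  have hXperf : ⁅X, X⁆ = X := by
    apply le_antisymm (commutator_le_self X)
    rw [hX]
    apply normalClosure_le_normal
    rw [← hX]
    calc (A : Set G) = ((⁅A, A⁆ : Subgroup G) : Set G) := by
          rw [Subgroup.isPerfect_iff.1 hq.1]
      _ ⊆ ((⁅X, X⁆ : Subgroup G) : Set G) := commutator_mono hAX hAX
  refine ⟨?_, ?_⟩
  · -- semisimplicity
    obtain ⟨π, hπ⟩ : ∃ π : G →* G ⧸ pPrimeCore 2 G, π = QuotientGroup.mk' (pPrimeCore 2 G) :=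
      ⟨_, rfl⟩
    have hπs : Function.Surjective π := hπ ▸ QuotientGroup.mk'_surjective _
    have hπker : π.ker = pPrimeCore 2 G := hπ ▸ QuotientGroup.ker_mk' _
    have hXbar : X.map π ≤ layer (G ⧸ pPrimeCore 2 G) := by
      rw [map_le_iff_le_comap, hX]
      apply normalClosure_le_normal
      rw [SetLike.coe_subset_coe, ← map_le_iff_le_comap]
      calc A.map π ≤ (pLayer 2 G).map π := map_mono hAL
        _ = layer (G ⧸ pPrimeCore 2 G) := by rw [hπ]; exact map_pLayer
    haveI hXbn : (X.map π).Normal := hXn.map π hπs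
    have hXbperf : ⁅X.map π, X.map π⁆ = X.map π := by
      rw [← map_commutator, hXperf]
    have hlay := layer_eq_top_of_normal_perfect_le_layer (X.map π) hXbperf hXbar
    have hker : (π.subgroupMap X).ker ≤ center ↥X := by
      intro x hx
      rw [MonoidHom.mem_ker] at hx
      have h1 : π (x : G) = 1 := by
        have := congrArg Subtype.val hx
        simpa using this
      have h2 : (x : G) ∈ pPrimeCore 2 G := by rw [← hπker]; exact h1
      rw [Subgroup.mem_center_iff]
      intro y
      apply Subtype.ext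
      rw [Subgroup.coe_mul, Subgroup.coe_mul]
      exact (mem_centralizer_iff.1 (hXV y.2) (x : G) h2).symm
    have hperfX : ⁅(⊤ : Subgroup ↥X), (⊤ : Subgroup ↥X)⁆ = ⊤ := by
      rw [← _root_.commutator_def]
      exact Group.isPerfect_def.1 (Subgroup.isPerfect_iff.2 hXperf)
    exact layer_eq_top_of_surjective_central (π.subgroupMap X) (π.subgroupMap_surjective X)
      hker hperfX hlay
  · -- the centre has odd order
    by_contra hodd
    rw [Nat.not_odd_iff_even, even_iff_two_dvd] at hodd
    obtain ⟨z, hz⟩ := exists_prime_orderOf_dvd_card' (G := ↥(center ↥X)) 2 hodd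
    obtain ⟨z0, hz0⟩ : ∃ z0 : G, z0 = ((z : ↥X) : G) := ⟨_, rfl⟩
    have hz0o : orderOf z0 = 2 := by
      rw [hz0, Subgroup.orderOf_coe, Subgroup.orderOf_coe, hz]
    have hz0c : ∀ x ∈ X, x * z0 = z0 * x := by
      intro x hx
      have := Subgroup.mem_center_iff.1 z.2 ⟨x, hx⟩
      have := congrArg Subtype.val this
      rw [Subgroup.coe_mul, Subgroup.coe_mul] at this
      rw [hz0]; exact this
    have hallg : ∀ g : G, g ∈ normalizer ((centralizer (A : Set G) : Subgroup G) : Set G) := by
      intro g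
      by_contra hgn
      have hoddg := htight.2 g hgn
      have hmem : z0 ∈ centralizer (A : Set G) ⊓
          (centralizer (A : Set G)).map (MulAut.conj g).toMonoidHom := by
        refine Subgroup.mem_inf.2 ⟨?_, g⁻¹ * z0 * g, ?_, ?_⟩
        · rw [mem_centralizer_iff]
          intro x hx
          exact hz0c x (hAX hx)
        · rw [SetLike.mem_coe, mem_centralizer_iff]
          intro x hx
          have hgx : g * x * g⁻¹ ∈ X := hXn.conj_mem x (hAX hx) g
          have h1 := hz0c _ hgx
          calc x * (g⁻¹ * z0 * g) = g⁻¹ * ((g * x * g⁻¹) * z0) * g := by group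
            _ = g⁻¹ * (z0 * (g * x * g⁻¹)) * g := by rw [h1]
            _ = g⁻¹ * z0 * g * x := by group
        · change g * (g⁻¹ * z0 * g) * g⁻¹ = z0
          group
      have h2 : 2 ∣ Nat.card ↥(centralizer (A : Set G) ⊓
          (centralizer (A : Set G)).map (MulAut.conj g).toMonoidHom) := by
        have := orderOf_dvd_natCard (⟨z0, hmem⟩ : ↥(centralizer (A : Set G) ⊓
          (centralizer (A : Set G)).map (MulAut.conj g).toMonoidHom))
        rwa [Subgroup.orderOf_mk, hz0o] at this
      exact (Nat.not_even_iff_odd.2 hoddg) (even_iff_two_dvd.2 h2)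
    have hNA : normalizer (A : Set G) = ⊤ := by
      rw [hnorm, eq_top_iff]
      intro g _
      exact hallg g
    haveI hAn : A.Normal := normalizer_eq_top_iff.1 hNA
    have hXA : X = A := by rw [hX]; exact normalClosure_eq_self A
    apply hc1
    rw [commutator_eq_bot_iff_le_centralizer]
    intro x hx
    have hxA : x ∈ A := by rw [← hXA]; exact hRX hx
    rw [mem_centralizer_iff]
    intro s hs
    rcases mem_zpowers_two ht hs with rfl | rfl
    · simp
    · exact (mem_centralizer_iff.1 htA x hxA).symm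

end Cfsg.Agent.S3164P
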